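import Cfsg.Agent.H694.EB.BTypes
import Cfsg.Agent.H522.EB.RankThree
import Cfsg.Agent.Mrg.Omega.ML.Ex.Typ.List
import Cfsg.Agent.S0249

/-!
# TEAM EB (S4522, S4515), [U11]: `BData` for `PSL_{n+1}(q)`, `n ≥ 3`, `q` odd (helper24)

`inB0_of_torus` : a `2`-subgroup `Q` of the torus `B ∩ N` such that all elements of odd order commuting with `Q` lie in
`B` puts all constituents of the permutation character on the cosets of a parabolic subgroup into the principal
`2`-block (criterion (L') of helper522). In `PSL_m(q)`, `m ≥ 3`, `q` odd, `Q` = the elements of order `≤ 2` of the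
torus.
-/

set_option autoImplicit false
set_option linter.style.haveILetI false

namespace Cfsg.Agent.H24.EB

open Cfsg Cfsg.Agent.H694 Cfsg.Agent.H694.EB Cfsg.Agent.H610.EB
open Cfsg.Agent.LieExceptional.BNPairCore Cfsg.Agent.Tits.Core
  Cfsg.Agent.Tits.OfBN Cfsg.Agent.Schreier.BNSch Cfsg.Agent.FixBN
  Cfsg.Agent.OddHalf.Table.AutBldg
open Cfsg.Agent.Omega.ML.Ex.Typ (HasSplitT HasRGDT)

universe u

section

variable {K : Type u} [Group K] {P : Cfsg.BNPair K} {I : Type*} (e : I ≃ P.S)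

/-- criterion (L') for parabolic subgroups -/
theorem inB0_of_torus (J : Set I) (Q : Subgroup K) (hQ : IsPGroup 2 Q) (hQT : Q ≤ P.B ⊓ P.N)
    (hc : ∀ g : K, IsPRegular 2 g → (∀ q ∈ Q, q * g = g * q) → g ∈ P.B) [Fintype K] :
    InB0 (cls (PJ P e J)) := by
  classical
  intro m hm φ hφ
  have h1 : classInner (permC K (K ⧸ PJ P e J)) (φ : K → ℂ) ≠ 0 := by
    intro h0
    apply hφ
    have h2 : permS (cls (PJ P e J)) = permC K (K ⧸ PJ P e J) := by
      funext s
      rw [permS_cls (normalizer_PJ e J)]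
      rfl
    rw [mu, h2, h0]
    simp
  have hft : Fintype (K ⧸ PJ P e J) := Fintype.ofFinite _
  refine H522.EB.mem_of_orbitals (X := K ⧸ PJ P e J) hm ?_ φ h1
  intro x y hxy
  induction x using QuotientGroup.induction_on with
  | H g₁ =>
  induction y using QuotientGroup.induction_on with
  | H g₂ =>
  obtain ⟨n, hn, hg⟩ := bruhat (P := P) (g₁⁻¹ * g₂)
  obtain ⟨b, hb, b', hb', hbb⟩ := mem_C.1 hg
  have hB : P.B ≤ PJ P e J := B_le_PJ e J
  have hx : (QuotientGroup.mk g₁ : K ⧸ PJ P e J) = QuotientGroup.mk (g₁ * b) := by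
    rw [QuotientGroup.eq, inv_mul_cancel_left]
    exact hB hb
  have hy : (QuotientGroup.mk g₂ : K ⧸ PJ P e J) = QuotientGroup.mk (g₁ * b * n) := by
    have h2 : g₂ = g₁ * b * n * b' := by
      rw [← mul_inv_cancel_left g₁ g₂, hbb]
      group
    rw [h2, eq_comm, QuotientGroup.eq]
    have h3 : (g₁ * b * n)⁻¹ * (g₁ * b * n * b') = b' := by group
    rw [h3]
    exact hB hb'
  refine ⟨Q.map (MulAut.conj (g₁ * b)).toMonoidHom, hQ.map _, ?_, ?_, ?_⟩
  · rintro _ ⟨q, hq, rfl⟩
    rw [hx]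
    show (QuotientGroup.mk (g₁ * b * q * (g₁ * b)⁻¹ * (g₁ * b)) : K ⧸ PJ P e J) = _
    rw [inv_mul_cancel_right, eq_comm, QuotientGroup.eq, inv_mul_cancel_left]
    exact hB (hQT hq).1
  · rintro _ ⟨q, hq, rfl⟩
    rw [hy]
    show (QuotientGroup.mk (g₁ * b * q * (g₁ * b)⁻¹ * (g₁ * b * n)) : K ⧸ PJ P e J) = _
    rw [eq_comm, QuotientGroup.eq]
    have h3 : (g₁ * b * n)⁻¹ * (g₁ * b * q * (g₁ * b)⁻¹ * (g₁ * b * n)) = n⁻¹ * q * n⁻¹⁻¹ := by group
    rw [h3]
    exact hB (P.conj_mem n⁻¹ (inv_mem hn) q (hQT hq))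
  · intro g hg hcom hgx
    apply hxy
    have h3 : (g₁ * b)⁻¹ * g * (g₁ * b) ∈ P.B := by
      refine hc _ ?_ ?_
      · unfold IsPRegular at hg ⊢
        have h4 : orderOf ((g₁ * b)⁻¹ * g * (g₁ * b)) = orderOf g := by
          have := (MulAut.conj (g₁ * b)⁻¹).orderOf_eq g
          rwa [MulAut.conj_apply, inv_inv] at this
        rwa [h4]
      · intro q hq
        have h4 := hcom _ ⟨q, hq, rfl⟩
        have h5 : g₁ * b * q * (g₁ * b)⁻¹ * g = g * (g₁ * b * q * (g₁ * b)⁻¹) := h4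
        calc q * ((g₁ * b)⁻¹ * g * (g₁ * b)) = (g₁ * b)⁻¹ * (g₁ * b * q * (g₁ * b)⁻¹ * g) * (g₁ * b) := by group
          _ = (g₁ * b)⁻¹ * (g * (g₁ * b * q * (g₁ * b)⁻¹)) * (g₁ * b) := by rw [h5]
          _ = (g₁ * b)⁻¹ * g * (g₁ * b) * q := by group
    rw [← hgx, hx]
    show _ = (QuotientGroup.mk (g * (g₁ * b)) : K ⧸ PJ P e J)
    rw [QuotientGroup.eq]
    have h4 : (g₁ * b)⁻¹ * (g * (g₁ * b)) = (g₁ * b)⁻¹ * g * (g₁ * b) := by group
    rw [h4]
    exact hB h3

end

/-- `BData` from a `2`-subgroup of the torus. -/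
theorem bData_of_torus {I : Type*} [Finite I] {M : CoxeterMatrix I} {K : Type u} [Group K]
    [Finite K] {p : ℕ} (hp : p.Prime) (hp2 : p ≠ 2) (P : Cfsg.BNPair K) (U : Subgroup K) (e : I ≃ P.S)
    (S : Split P p U) (hT : BNType P M e) (Q : Subgroup K) (hQ : IsPGroup 2 Q) (hQT : Q ≤ P.B ⊓ P.N)
    (hc : ∀ g : K, IsPRegular 2 g → (∀ q ∈ Q, q * g = g * q) → g ∈ P.B) (J : Set I)
    (hJ : ∀ σ : I ≃ I, (∀ i j, M (σ i) (σ j) = M i j) → σ '' J = J)
    (hodd : ∀ (W : Type u) [Group W] [Finite W] (cs : CoxeterSystem M W),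
      Odd ((WJ cs J).index + Nat.card (DoubleCoset.Quotient (WJ cs J : Set W) (WJ cs J : Set W)))) :
    BData K := by
  obtain ⟨hN, cs, hcs⟩ := hT
  haveI : Fact p.Prime := ⟨hp⟩
  refine ⟨cls (PJ P e J), ?_, ?_, ?_⟩
  · intro α
    obtain ⟨σ, hσ, h⟩ := exists_type_perm e cs hcs S α
    obtain ⟨g, hg⟩ := h J
    rw [hJ σ hσ] at hg
    rintro _ ⟨t, rfl⟩
    refine ⟨α t * g, ?_⟩
    rw [← map_conj_conj, ← hg, Subgroup.map_map, Subgroup.map_map]
    congr 1
    ext x
    simp
  · have h1 := index_mod e cs hcs (hp.odd_of_ne_two hp2) S J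
    have h2 := hodd (WP P) cs
    rw [card_cls (normalizer_PJ e J), card_pairRel (normalizer_PJ e J) (normalizer_PJ e J),
      card_double e cs hcs, Nat.odd_iff, Nat.add_mod, h1, ← Nat.add_mod, ← Nat.odd_iff]
    exact h2
  · intro _
    exact inB0_of_torus e J Q hQ hQT hc

/-! ### The torus of `PSL_m(q)` -/

section PSL

open Matrix Cfsg.Agent.Nodes.RGDTypeA

/-- the elements of order at most two of an abelian subgroup -/
def sqOne {G : Type*} [Group G] (T : Subgroup G) (hT : ∀ x ∈ T, ∀ y ∈ T, x * y = y * x) : Subgroup G where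
  carrier := {x | x ∈ T ∧ x * x = 1}
  mul_mem' := by
    rintro x y ⟨hx, hx2⟩ ⟨hy, hy2⟩
    refine ⟨mul_mem hx hy, ?_⟩
    calc x * y * (x * y) = x * (y * x) * y := by group
      _ = x * (x * y) * y := by rw [hT x hx y hy]
      _ = (x * x) * (y * y) := by group
      _ = 1 := by rw [hx2, hy2, one_mul]
  one_mem' := ⟨one_mem _, one_mul _⟩
  inv_mem' := by
    rintro x ⟨hx, hx2⟩
    refine ⟨inv_mem hx, ?_⟩
    rw [← _root_.mul_inv_rev, hx2, _root_.inv_one]

theorem mem_sqOne {G : Type*} [Group G] {T : Subgroup G} {hT : ∀ x ∈ T, ∀ y ∈ T, x * y = y * x} {x : G} :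
    x ∈ sqOne T hT ↔ x ∈ T ∧ x * x = 1 := Iff.rfl

theorem isPGroup_sqOne {G : Type*} [Group G] (T : Subgroup G) (hT : ∀ x ∈ T, ∀ y ∈ T, x * y = y * x) :
    IsPGroup 2 (sqOne T hT) := by
  intro x
  refine ⟨1, Subtype.ext ?_⟩
  rw [pow_one, pow_two]
  exact x.2.2

variable {n : ℕ} {F : Type u} [Field F]

theorem comm_T {ι : Type*} [Fintype ι] [DecidableEq ι] {x y : SpecialLinearGroup ι F} (hx : x ∈ T ι F)
    (hy : y ∈ T ι F) : x * y = y * x := by
  have hd : ∀ z : SpecialLinearGroup ι F, z ∈ T ι F → z.1 = diagonal fun i => z.1 i i := by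
    intro z hz
    ext i j
    by_cases hij : i = j
    · subst hij
      rw [diagonal_apply_eq]
    · rw [diagonal_apply_ne _ hij]
      by_contra h
      exact hij (hz i j h)
  apply Subtype.ext
  show x.1 * y.1 = y.1 * x.1
  rw [hd x hx, hd y hy, diagonal_mul_diagonal, diagonal_mul_diagonal]
  congr 1
  funext i
  exact mul_comm _ _

/-- An element of odd order commuting with the elements of order two of the torus lies in the torus. -/
theorem mem_of_comm (hn : 2 ≤ n) (h2 : (2 : F) ≠ 0) {T' : Subgroup (ProjectiveSpecialLinearGroup (Fin (n + 1)) F)}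
    (hT' : T' = (T (Fin (n + 1)) F).map (pr n F)) (hcm : ∀ x ∈ T', ∀ y ∈ T', x * y = y * x)
    (g : ProjectiveSpecialLinearGroup (Fin (n + 1)) F) (hg : Odd (orderOf g))
    (hq : ∀ q ∈ sqOne T' hcm, q * g = g * q) : g ∈ T' := by
  obtain ⟨h, rfl⟩ := pr_surjective (n := n) (F := F) g
  set k := orderOf (pr n F h) with hk
  have hcen : ∀ z : SpecialLinearGroup (Fin (n + 1)) F, pr n F z = 1 → ∀ x, z * x = x * z := by
    intro z hz x
    have h3 : z ∈ Subgroup.center (SpecialLinearGroup (Fin (n + 1)) F) := by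
      rw [← ker_pr]
      exact hz
    exact (Subgroup.mem_center_iff.1 h3 x).symm
  have hneg : (-1 : F) ≠ 0 := neg_ne_zero.2 one_ne_zero
  -- `h` commutes with the diagonal elements
  have key : ∀ (a b : Fin (n + 1)) (hab : a ≠ b), SpecialLinearGroup.diag2n hab (-1) hneg * h =
      h * SpecialLinearGroup.diag2n hab (-1) hneg := by
    intro a b hab
    set t := SpecialLinearGroup.diag2n hab (-1 : F) hneg with ht
    have ht2 : t * t = 1 := by
      apply Subtype.ext
      show t.1 * t.1 = 1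
      rw [ht, SpecialLinearGroup.diag2n_coe, diagonal_mul_diagonal, ← diagonal_one]
      congr 1
      funext i
      by_cases h3 : i = a
      · simp [h3]
      · by_cases h4 : i = b
        · simp [h4]
        · simp [h3, h4]
    have htT : t ∈ T (Fin (n + 1)) F := diag_mem_T hab hneg
    have h3 : pr n F t * pr n F h = pr n F h * pr n F t := by
      refine hq _ (mem_sqOne.2 ⟨?_, ?_⟩)
      · rw [hT']
        exact ⟨t, htT, rfl⟩
      · rw [← map_mul, ht2, map_one]
    obtain ⟨z, hz⟩ : ∃ z, z = h⁻¹ * (t * h * t) := ⟨_, rfl⟩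
    have hth : t * h * t = h * z := by rw [hz, mul_inv_cancel_left]
    have hz1 : pr n F z = 1 := by
      rw [hz, map_mul, map_mul, map_mul, h3, map_inv, mul_assoc (pr n F h), ← map_mul, ht2, map_one, mul_one,
        inv_mul_cancel]
    have hzc := hcen z hz1
    -- `z² = 1`
    have hzz : z * z = 1 := by
      have h4 : t * (t * h * t) * t = h := by
        calc t * (t * h * t) * t = (t * t) * h * (t * t) := by group
          _ = h := by rw [ht2, one_mul, mul_one]
      have h5 : t * (h * z) * t = h * z * z := by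
        calc t * (h * z) * t = t * h * (z * t) := by group
          _ = t * h * (t * z) := by rw [hzc t]
          _ = t * h * t * z := by group
          _ = h * z * z := by rw [hth]
      rw [hth, h5, mul_assoc] at h4
      exact mul_eq_left.1 h4
    -- `z ^ k = 1`
    have hzk : z ^ k = 1 := by
      have h4 : ∀ j : ℕ, t * h ^ j * t = h ^ j * z ^ j := by
        intro j
        induction j with
        | zero => rw [pow_zero, pow_zero, mul_one, mul_one, ht2]
        | succ j ih =>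
          calc t * h ^ (j + 1) * t = t * (h ^ j * h) * t := by rw [pow_succ]
            _ = t * h ^ j * 1 * h * t := by group
            _ = t * h ^ j * (t * t) * h * t := by rw [ht2]
            _ = (t * h ^ j * t) * (t * h * t) := by group
            _ = h ^ j * z ^ j * (h * z) := by rw [ih, hth]
            _ = h ^ j * (z ^ j * h) * z := by group
            _ = h ^ j * (h * z ^ j) * z := by
              have : Commute (z ^ j) h := (show Commute z h from hzc h).pow_left j
              rw [this.eq]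
            _ = h ^ (j + 1) * z ^ (j + 1) := by rw [pow_succ h, pow_succ z]; group
      have h5 : pr n F (h ^ k) = 1 := by rw [map_pow, hk, pow_orderOf_eq_one]
      have h6 := h4 k
      rw [← hcen _ h5 t, mul_assoc, ht2, mul_one] at h6
      exact mul_eq_left.1 h6.symm
    have hz0 : z = 1 := by
      obtain ⟨j, hj⟩ := hg
      rw [hj, pow_succ, pow_mul, pow_two, hzz, one_pow, one_mul] at hzk
      exact hzk
    rw [hz0, mul_one] at hth
    calc t * h = t * h * (t * t) := by rw [ht2, mul_one]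
      _ = t * h * t * t := by group
      _ = h * t := by rw [hth]
  rw [hT']
  refine ⟨h, ?_, rfl⟩
  intro c d hcd
  by_contra hne
  have hne' : c ≠ d := hne
  -- a third index
  obtain ⟨b, hbc, hbd⟩ : ∃ b : Fin (n + 1), b ≠ c ∧ b ≠ d := by
    by_contra hcon
    push Not at hcon
    have h3 : (Finset.univ : Finset (Fin (n + 1))) ⊆ {c, d} := by
      intro x _
      rw [Finset.mem_insert, Finset.mem_singleton]
      by_cases h4 : x = c
      · exact Or.inl h4
      · exact Or.inr (hcon x h4)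
    have h4 := Finset.card_le_card h3
    rw [Finset.card_univ, Fintype.card_fin] at h4
    have h5 := Finset.card_le_two (a := c) (b := d)
    omega
  have h3 := key c b hbc.symm
  have h4 := congrArg (fun x : SpecialLinearGroup (Fin (n + 1)) F => x.1 c d) h3
  have h5 : ((diagonal (fun k => if k = c then (-1 : F) else if k = b then (-1)⁻¹ else 1) :
      Matrix (Fin (n + 1)) (Fin (n + 1)) F) * h.1) c d =
      (h.1 * diagonal (fun k => if k = c then (-1 : F) else if k = b then (-1)⁻¹ else 1)) c d := h4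
  rw [diagonal_mul, mul_diagonal, if_pos rfl, if_neg hne'.symm, if_neg hbd.symm, mul_one] at h5
  apply hcd
  have h6 : (2 : F) * h.1 c d = 0 := by linear_combination -h5
  exact (mul_eq_zero.1 h6).resolve_left h2

end PSL

open Cfsg.Agent.LieRecognition.BNCox (cA)
open Cfsg.Agent.Nodes.RGDTypeA Cfsg.Agent.Nodes Cfsg.Agent.Nodes.BNOf Cfsg.Agent.Nodes.Reps
open Cfsg.Agent.Omega.ML.Ex.Typ (bnType)

/-- **[U11]** `q` odd, type `A_n`, `n ≥ 3` -/
theorem bData_A {n : ℕ} (hn : 3 ≤ n) {F : Type u} [Field F] [Finite F] {p : ℕ} [Fact p.Prime] [CharP F p] (hp : p ≠ 2) :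
    BData (Matrix.ProjectiveSpecialLinearGroup (Fin (n + 1)) F) := by
  have hpp : p.Prime := Fact.out
  have hs : IsSimpleGroup (Matrix.ProjectiveSpecialLinearGroup (Fin (n + 1)) F) := S0249.result (n + 1) (by omega)
  have hW : Finite (cA n).Group := Nodes.RootsA.finite_W (cA n).toCoxeterSystem (Nodes.RootsA.isCartan n)
  have R := Nodes.RGDTypeA.rgd_psl (F := F) (p := p) (cA n).toCoxeterSystem (Nodes.RootsA.isCartan n)
  have hX := Nodes.RGDTypeA.G1_psl_eq_top (F := F) (cA n).toCoxeterSystem (Nodes.RootsA.isCartan n)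
  have hgen : RGD.B (cA n).toCoxeterSystem (Nodes.RootsA.isCartan n)
      ((T (Fin (n + 1)) F).map (pr n F)) (fun x => (Nodes.RGDTypeA.X F x).map (pr n F)) ⊔
        NN (cA n).toCoxeterSystem R.nsys = ⊤ := by
    rw [eq_top_iff, ← hX]
    exact Nodes.RGDLib.rgd_G1_le R
  have hne : (R.bnPair hgen).S.Nonempty := ⟨_, (⟨0, by omega⟩ : Fin n), rfl⟩
  have hS := Cfsg.Agent.FixBN.SplitRGD.split_of_rgd hpp R hgen
    (Cfsg.Agent.Tits.OfBN.normalCore_eq_bot (R.bnPair hgen) hne)
  have hcm : ∀ x ∈ (T (Fin (n + 1)) F).map (pr n F), ∀ y ∈ (T (Fin (n + 1)) F).map (pr n F), x * y = y * x := by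
    rintro _ ⟨x, hx, rfl⟩ _ ⟨y, hy, rfl⟩
    rw [← map_mul, ← map_mul, comm_T hx hy]
  have h2 : (2 : F) ≠ 0 := by
    intro h
    have h3 : ((2 : ℕ) : F) = 0 := by exact_mod_cast h
    rw [CharP.cast_eq_zero_iff F p] at h3
    exact hp ((Nat.prime_dvd_prime_iff_eq hpp Nat.prime_two).1 h3)
  refine bData_of_torus hpp hp (R.bnPair hgen) _ _ hS (bnType R hgen) (sqOne _ hcm) (isPGroup_sqOne _ hcm) ?_ ?_
    {i | cAd n i = 0} ?_ ?_
  · intro q hq
    have h3 := (mem_sqOne.1 hq).1
    rw [← R.B_inf_NN] at h3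
    exact h3
  · intro g hg hq
    refine RGD.T_le_B (mem_of_comm (by omega) h2 rfl hcm g ?_ hq)
    unfold IsPRegular at hg
    rwa [Nat.two_dvd_ne_zero, ← Nat.odd_iff] at hg
  · intro σ hσ
    have h1 : {i : Fin n | cAd n i = 0} = {i : Fin n | (i : ℕ) = 0 ∨ (i : ℕ) = n - 1}ᶜ := by
      ext i
      exact cAd_eq_zero
    rw [h1]
    exact image_compl_eq σ _ fun i hi => leaf_A hn σ hσ i hi
  · intro W _ _ cs
    obtain ⟨h1, h2⟩ := parity_A hn cs
    rw [h1, h2]
    exact (Nat.even_mul_succ_self n).add_odd (by decide)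

end Cfsg.Agent.H24.EB
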